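import Mathlib

/-!
# Relative traces of a representation over a pair of subgroups
-/

set_option autoImplicit false
set_option linter.unusedSectionVars false

noncomputable section

namespace CfsgLib.SplitBlocks

attribute [local instance] Fintype.ofFinite

variable {G : Type*} [Group G] [Finite G] {k : Type*} [Semiring k] {S : Type*} [AddCommMonoid S]
  [Module k S] (ρ : G →* Module.End k S)

/-- The sum over the cosets of `A` in `C`. -/
def tr (A C : Subgroup G) (z : S) : S := ∑ c : C ⧸ A.subgroupOf C, ρ ((c.out : C) : G) z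

variable {ρ}

theorem rho_congr {A : Subgroup G} {z : S} (hz : ∀ a ∈ A, ρ a z = z) {g h : G} (e : g⁻¹ * h ∈ A) :
    ρ h z = ρ g z := by
  rw [show h = g * (g⁻¹ * h) by group, map_mul, Module.End.mul_apply, hz _ e]

/-- A relative trace is the sum over any transversal. -/
theorem tr_eq_sum {A C : Subgroup G} {z : S} (hz : ∀ a ∈ A, ρ a z = z) {ι : Type*} [Fintype ι]
    (f : ι → G) (hf : ∀ i, f i ∈ C) (hinj : ∀ i j, (f i)⁻¹ * f j ∈ A → i = j)
    (hsurj : ∀ c ∈ C, ∃ i, (f i)⁻¹ * c ∈ A) : tr ρ A C z = ∑ i, ρ (f i) z := by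
  rw [tr]
  symm
  refine Fintype.sum_bijective (fun i => ((⟨f i, hf i⟩ : C) : C ⧸ A.subgroupOf C)) ⟨?_, ?_⟩ _ _ ?_
  · intro i j e
    exact hinj i j (Subgroup.mem_subgroupOf.1 (QuotientGroup.eq.1 e))
  · intro q
    induction q using QuotientGroup.induction_on with
    | H c =>
      obtain ⟨i, hi⟩ := hsurj c c.2
      exact ⟨i, QuotientGroup.eq.2 (Subgroup.mem_subgroupOf.2 hi)⟩
  · intro i
    refine rho_congr hz ?_
    have := QuotientGroup.eq.1 (QuotientGroup.out_eq'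
      ((⟨f i, hf i⟩ : C) : C ⧸ A.subgroupOf C))
    exact Subgroup.mem_subgroupOf.1 this

theorem out_inj {A C : Subgroup G} (i j : C ⧸ A.subgroupOf C)
    (h : ((i.out : C) : G)⁻¹ * (j.out : C) ∈ A) : i = j := by
  rw [← QuotientGroup.out_eq' i, ← QuotientGroup.out_eq' j]
  exact QuotientGroup.eq.2 (Subgroup.mem_subgroupOf.2 h)

theorem out_surj {A C : Subgroup G} {c : G} (hc : c ∈ C) :
    ∃ i : C ⧸ A.subgroupOf C, ((i.out : C) : G)⁻¹ * c ∈ A :=
  ⟨((⟨c, hc⟩ : C) : C ⧸ A.subgroupOf C), Subgroup.mem_subgroupOf.1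
    (QuotientGroup.eq.1 (QuotientGroup.out_eq' ((⟨c, hc⟩ : C) : C ⧸ A.subgroupOf C)))⟩

theorem tr_fixed {A C : Subgroup G} {z : S} (hz : ∀ a ∈ A, ρ a z = z) {g : G} (hg : g ∈ C) :
    ρ g (tr ρ A C z) = tr ρ A C z := by
  have h := tr_eq_sum (ρ := ρ) hz (C := C) (fun i : C ⧸ A.subgroupOf C => g * ((i.out : C) : G))
    (fun i => mul_mem hg i.out.2)
    (fun i j h => out_inj i j (by simpa [mul_assoc] using h))
    (fun c hc => by
      obtain ⟨i, hi⟩ := out_surj (A := A) (mul_mem (inv_mem hg) hc)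
      exact ⟨i, by simpa [mul_assoc] using hi⟩)
  conv_rhs => rw [h]
  rw [tr, map_sum]
  exact Finset.sum_congr rfl fun i _ => by rw [map_mul, Module.End.mul_apply]

theorem tr_trans {A B C : Subgroup G} (hAB : A ≤ B) (hBC : B ≤ C) {z : S}
    (hz : ∀ a ∈ A, ρ a z = z) : tr ρ A C z = tr ρ B C (tr ρ A B z) := by
  have h := tr_eq_sum (ρ := ρ) hz (C := C)
    (fun q : (C ⧸ B.subgroupOf C) × (B ⧸ A.subgroupOf B) => ((q.1.out : C) : G) * (q.2.out : B))
    (fun q => mul_mem q.1.out.2 (hBC q.2.out.2)) ?_ ?_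
  · rw [h, Fintype.sum_prod_type]
    rw [tr]
    refine Finset.sum_congr rfl fun c _ => ?_
    rw [tr, map_sum]
    exact Finset.sum_congr rfl fun d _ => by rw [map_mul, Module.End.mul_apply]
  · rintro ⟨c, d⟩ ⟨c', d'⟩ hcd
    simp only at hcd
    have hc : c = c' := by
      refine out_inj c c' ?_
      have := mul_mem (mul_mem d.out.2 (hAB hcd)) (inv_mem d'.out.2)
      simpa [mul_assoc] using this
    subst hc
    exact Prod.ext rfl (out_inj d d' (by simpa [mul_assoc] using hcd))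
  · intro x hx
    obtain ⟨c, hc⟩ := out_surj (A := B) hx
    obtain ⟨d, hd⟩ := out_surj (A := A) hc
    exact ⟨⟨c, d⟩, by simpa [mul_assoc] using hd⟩

theorem tr_conj {A C : Subgroup G} {z : S} {u : G} (hu : u ∈ C) (hz : ∀ a ∈ A, ρ a z = z)
    {B : Subgroup G} (hB : ∀ g, g ∈ B ↔ u⁻¹ * g * u ∈ A) :
    tr ρ B C (ρ u z) = ρ u (tr ρ A C z) := by
  have hfix : ∀ b ∈ B, ρ b (ρ u z) = ρ u z := by
    intro b hb
    rw [← Module.End.mul_apply, ← map_mul, show b * u = u * (u⁻¹ * b * u) by group, map_mul,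
      Module.End.mul_apply, hz _ ((hB b).1 hb)]
  rw [tr_eq_sum (ρ := ρ) hfix (fun i : C ⧸ A.subgroupOf C => u * ((i.out : C) : G) * u⁻¹)
    (fun i => mul_mem (mul_mem hu i.out.2) (inv_mem hu)) ?_ ?_, tr, map_sum]
  · refine Finset.sum_congr rfl fun i _ => ?_
    rw [← Module.End.mul_apply, ← map_mul, ← Module.End.mul_apply, ← map_mul, inv_mul_cancel_right]
  · intro i j h
    refine out_inj i j ?_
    have := (hB _).1 h
    simpa [mul_assoc] using this
  · intro c hc
    obtain ⟨i, hi⟩ := out_surj (A := A) (mul_mem (mul_mem (inv_mem hu) hc) hu)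
    refine ⟨i, (hB _).2 ?_⟩
    simpa [mul_assoc] using hi

end CfsgLib.SplitBlocks
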