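import Cfsg.Agent.Lib.SplitBlocks.Roots
import Cfsg.Agent.Lib.SplitBlocks.Trace
import Cfsg.Agent.Lib.FGS.FreeOverComplement

/-!
# Simple modules in the defining characteristic of a split Tits system

A nonzero space `W` of `U`-fixed vectors, minimal among those stable under the torus, the Hecke
operators `gam t` and the endomorphisms of the module, is killed or permuted by each `gam t`.  The module
is spanned by the translates of `W` under `U w`.  So either some `gam t` kills `W`, and then the functionals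
fixed by the opposite unipotent group vanish on many relative traces, or the module is projective.
-/

set_option autoImplicit false
set_option linter.unusedSectionVars false

noncomputable section

namespace CfsgLib.SplitBlocks

open CfsgLib.Chev.BN CfsgLib.BNSteinberg

attribute [local instance] Fintype.ofFinite

variable {G : Type*} [Group G] [Finite G] {P : Cfsg.BNPair G} {p : ℕ} [hp : Fact p.Prime]
  {U : Subgroup G} {k : Type*} [Field k] [CharP k p]
  {S : Type*} [AddCommGroup S] [Module k S] [Module (MonoidAlgebra k G) S]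
  [IsScalarTower k (MonoidAlgebra k G) S]

local notation "R" => MonoidAlgebra k G

variable (k S) in
/-- The action of the group on a module of its group algebra. -/
def act : G →* Module.End k S where
  toFun g :=
    { toFun := fun v => MonoidAlgebra.of k G g • v
      map_add' := fun v v' => smul_add _ v v'
      map_smul' := fun c v => smul_comm _ c v }
  map_one' := LinearMap.ext fun v => by
    show MonoidAlgebra.of k G 1 • v = v
    rw [map_one, one_smul]
  map_mul' g h := LinearMap.ext fun v => by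
    show MonoidAlgebra.of k G (g * h) • v = MonoidAlgebra.of k G g • MonoidAlgebra.of k G h • v
    rw [map_mul, mul_smul]

local notation "𝐀" => act (G := G) k S

theorem act_mul (g h : G) (v : S) : 𝐀 (g * h) v = 𝐀 g (𝐀 h v) := by
  rw [map_mul, Module.End.mul_apply]

theorem act_one (v : S) : 𝐀 1 v = v := by rw [map_one, Module.End.one_apply]

theorem act_commute (e : Module.End R S) (g : G) (v : S) : e (𝐀 g v) = 𝐀 g (e v) :=
  e.map_smul _ v

/-- The Hecke operator of a generator. -/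
def gam (P : Cfsg.BNPair G) (U : Subgroup G) (w : G) (t : G) : S →ₗ[k] S :=
  ∑ x : Xsub P U w t, 𝐀 ((x : G) * t)

theorem gam_apply (w t : G) (v : S) :
    gam (k := k) P U w t v = ∑ x : Xsub P U w t, 𝐀 ((x : G) * t) v := by
  rw [gam, LinearMap.sum_apply]

/-- The product of the Hecke operators of a word. -/
def gamL (P : Cfsg.BNPair G) (U : Subgroup G) (w : G) : List G → (S →ₗ[k] S)
  | [] => LinearMap.id
  | t :: l => (gam P U w t) ∘ₗ gamL P U w l

theorem gamL_append_singleton (w : G) (l : List G) (t : G) :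
    gamL (k := k) (S := S) P U w (l ++ [t]) = gamL P U w l ∘ₗ gam P U w t := by
  induction l with
  | nil => simp [gamL]
  | cons a l ih => simp [gamL, ih, LinearMap.comp_assoc]

theorem red_init {l : List G} {t : G} (h : Red P (l ++ [t])) :
    Red P l ∧ t ∈ P.S ∧ len P (l.prod * t) = len P l.prod + 1 := by
  have hl : IsWord P l := h.1.sublist (List.sublist_append_left l [t])
  have ht : t ∈ P.S := h.1 t (by simp)
  have h1 := len_le_of_word hl (Eqv.refl (P := P) l.prod)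
  have h2 := len_mul_right_le ht hl.prod_mem
  have h3 := h.2
  rw [List.prod_append, List.prod_singleton, List.length_append, List.length_singleton] at h3
  exact ⟨⟨hl, by omega⟩, ht, by omega⟩

/-- `W` is a space of fixed vectors stable under the torus, the Hecke operators and the
endomorphisms. -/
structure Stable (P : Cfsg.BNPair G) (U : Subgroup G) (w : G) (W : Submodule k S) : Prop where
  fix : ∀ v ∈ W, ∀ u ∈ U, 𝐀 u v = v
  torus : ∀ v ∈ W, ∀ h ∈ P.B ⊓ P.N, 𝐀 h v ∈ W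
  hecke : ∀ v ∈ W, ∀ t ∈ P.S, gam (k := k) (S := S) P U w t v ∈ W
  endo : ∀ v ∈ W, ∀ e : Module.End (MonoidAlgebra k G) S, e v ∈ W

variable {w : G}

set_option quotPrecheck false in
local notation "γ" => gam (k := k) (S := S) P U w
set_option quotPrecheck false in
local notation "Γ" => gamL (k := k) (S := S) P U w

variable (hs : BNSteinberg.Split P p U) (hw : w ∈ P.N) (hl : LongJ P P.S w)
include hs hw hl

theorem tr_step {t : G} (ht : t ∈ P.S) {m : G} (hm : m ∈ P.N)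
    (hup : len P (m * t) = len P m + 1) {z : S}
    (hz : ∀ a ∈ fixU P U (m * t), 𝐀 a (𝐀 (m * t) z) = 𝐀 (m * t) z) :
    tr 𝐀 (fixU P U (m * t)) (fixU P U m) (𝐀 (m * t) z) = 𝐀 m (γ t z) := by
  rw [tr_eq_sum (ρ := 𝐀) hz (fun x : Xsub P U w t => m * (x : G) * m⁻¹)
    (fun x => X_le_fixU hs hw hl ht hm hup x.2) ?_ ?_, gam_apply, map_sum]
  · exact Finset.sum_congr rfl fun x _ => by
      rw [← act_mul, ← act_mul]
      congr 2
      group
  · intro x y h
    rw [show (m * (x : G) * m⁻¹)⁻¹ * (m * (y : G) * m⁻¹) = m * ((x : G)⁻¹ * y) * m⁻¹ by group] at h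
    exact Subtype.ext (inv_mul_eq_one.1 (X_step_eq_one hs hw hl ht (mul_mem (inv_mem x.2) y.2) h))
  · intro u hu
    obtain ⟨x, hx, hxu⟩ := fixU_step hs hw hl ht hm hup hu
    exact ⟨⟨x, hx⟩, hxu⟩

/-- The trace from the stabiliser of a chamber is a product of Hecke operators. -/
theorem tr_word : ∀ {l : List G}, Red P l → ∀ z : S,
    (∀ a ∈ fixU P U l.prod, 𝐀 a (𝐀 l.prod z) = 𝐀 l.prod z) →
      tr 𝐀 (fixU P U l.prod) U (𝐀 l.prod z) = Γ l z := by
  intro l
  induction l using List.reverseRecOn with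
  | nil =>
    intro _ z hz
    rw [List.prod_nil, act_one] at hz ⊢
    rw [tr_eq_sum (ρ := 𝐀) hz (fun _ : Unit => (1 : G)) (fun _ => one_mem _) (fun _ _ _ => rfl)
      (fun c hc => ⟨(), by simpa [mem_fixU] using And.intro hc (hs.le hc)⟩)]
    simp [gamL]
  | append_singleton l t ih =>
    intro hred z hz
    obtain ⟨hl', ht, hup⟩ := red_init hred
    rw [List.prod_append, List.prod_singleton] at hz ⊢
    have hm := hl'.1.prod_mem
    have hstep := tr_step hs hw hl ht hm hup hz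
    rw [tr_trans (ρ := 𝐀) (fixU_mono hs hw hl ht hm hup) (fixU_le _) hz, hstep,
      gamL_append_singleton, LinearMap.comp_apply]
    refine ih hl' _ fun a ha => ?_
    rw [← hstep]
    exact tr_fixed hz ha

theorem gam_torus {t : G} (ht : t ∈ P.S) {h : G} (hh : h ∈ P.B ⊓ P.N) (v : S) :
    𝐀 h (γ t v) = γ t (𝐀 (t⁻¹ * h * t) v) := by
  have hconj : ∀ g ∈ P.B ⊓ P.N, ∀ x ∈ Xsub P U w t, g * x * g⁻¹ ∈ Xsub P U w t := by
    intro g hg x hx
    refine ⟨hs.normal g hg.1 x hx.1, ?_⟩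
    have h' := (conj_mem_H' (mul_mem (s_mem_N ht) hw) hg).1
    have := P.B.mul_mem (P.B.mul_mem h' hx.2) (P.B.inv_mem h')
    rwa [show ((t * w)⁻¹ * g * (t * w)) * ((t * w)⁻¹ * x * (t * w)) *
      ((t * w)⁻¹ * g * (t * w))⁻¹ = (t * w)⁻¹ * (g * x * g⁻¹) * (t * w) by group] at this
  rw [gam_apply, gam_apply, map_sum]
  refine Fintype.sum_bijective
    (fun x : Xsub P U w t => (⟨h * x * h⁻¹, hconj h hh x x.2⟩ : Xsub P U w t)) ?_ _ _ fun x => ?_
  · exact Finite.injective_iff_bijective.1 fun a b e => by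
      simpa using congrArg (Subtype.val : Xsub P U w t → G) e
  · rw [← act_mul, ← act_mul]
    congr 2
    group

omit hw hl in
theorem conj_mem_U_of_H {h u : G} (hh : h ∈ P.B ⊓ P.N) (hu : u ∈ U) : h * u * h⁻¹ ∈ U :=
  hs.normal h hh.1 u hu

theorem gam_fixed {t : G} (ht : t ∈ P.S) {v : S} (hv : ∀ u ∈ U, 𝐀 u v = v) {u : G} (hu : u ∈ U) :
    𝐀 u (γ t v) = γ t v := by
  have hred : Red P [t] := ⟨fun x hx => by rw [List.mem_singleton.1 hx]; exact ht, by simp [len_s ht]⟩
  have hfix : ∀ a ∈ fixU P U [t].prod, 𝐀 a (𝐀 [t].prod v) = 𝐀 [t].prod v := by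
    intro a ha
    simp only [List.prod_singleton] at ha ⊢
    rw [← act_mul, show a * t = t * (t⁻¹ * a * t) by group, act_mul, hv _ (hs.conj_U ha.1 ha.2)]
  have h := tr_word hs hw hl hred v hfix
  simp only [gamL, LinearMap.comp_id] at h
  rw [← h]
  exact tr_fixed hfix hu

theorem exists_min [Nontrivial S] [FiniteDimensional k S] :
    ∃ W : Submodule k S, W ≠ ⊥ ∧ Stable P U w W ∧
      ∀ W' : Submodule k S, W' ≠ ⊥ → Stable P U w W' → W' ≤ W → W' = W := by
  classical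
  let F : Submodule k S :=
    { carrier := {v | ∀ u ∈ U, 𝐀 u v = v}
      add_mem' := fun ha hb u hu => by rw [map_add, ha u hu, hb u hu]
      zero_mem' := fun u _ => map_zero _
      smul_mem' := fun c v hv u hu => by rw [map_smul, hv u hu] }
  have hFs : Stable P U w F := by
    refine ⟨fun v hv => hv, fun v hv h hh u hu => ?_, fun v hv t ht u hu => gam_fixed hs hw hl ht hv hu,
      fun v hv e u hu => by rw [← act_commute, hv u hu]⟩
    have := conj_mem_U_of_H hs (inv_mem hh) hu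
    rw [inv_inv] at this
    rw [← act_mul, show u * h = h * (h⁻¹ * u * h) by group, act_mul, hv _ this]
  have hFne : F ≠ ⊥ := by
    obtain ⟨v, hv, hfix⟩ := CfsgLib.FGS.FreeCompl.exists_fixed_of_pGroup hs.pgroup ((𝐀).comp U.subtype)
    exact fun h => hv ((Submodule.mem_bot k).1 (h.le (show v ∈ F from fun u hu => hfix ⟨u, hu⟩)))
  have hex : ∃ n, ∃ W : Submodule k S, W ≠ ⊥ ∧ Stable P U w W ∧ Module.finrank k W = n :=
    ⟨_, F, hFne, hFs, rfl⟩
  obtain ⟨W, hW, hWs, hn⟩ := Nat.find_spec hex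
  exact ⟨W, hW, hWs, fun W' h1 h2 h3 => Submodule.eq_of_le_of_finrank_le h3
    (hn ▸ Nat.find_min' hex ⟨W', h1, h2, rfl⟩)⟩

theorem gamL_stable {W : Submodule k S} (hW : Stable P U w W) :
    ∀ {l : List G}, IsWord P l → ∀ v ∈ W, Γ l v ∈ W := by
  intro l
  induction l with
  | nil => intro _ v hv; exact hv
  | cons t l ih =>
    intro hlw v hv
    exact hW.hecke _ (ih (hlw.sublist (List.sublist_cons_self t l)) v hv) t (hlw t (by simp))

theorem gamL_torus {W : Submodule k S} (hW : Stable P U w W) :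
    ∀ {l : List G}, IsWord P l → ∀ h ∈ P.B ⊓ P.N, ∀ v ∈ W,
      ∃ v' ∈ W, 𝐀 h (Γ l v) = Γ l v' := by
  intro l
  induction l with
  | nil => intro _ h hh v hv; exact ⟨_, hW.torus v hv h hh, rfl⟩
  | cons t l ih =>
    intro hlw h hh v hv
    have ht : t ∈ P.S := hlw t (by simp)
    obtain ⟨v', hv', e⟩ := ih (hlw.sublist (List.sublist_cons_self t l)) _
      (conj_mem_H' (s_mem_N ht) hh) v hv
    exact ⟨v', hv', by rw [gamL, LinearMap.comp_apply, gam_torus hs hw hl ht hh, e]; rfl⟩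

theorem gamL_congr {l l' : List G} (hr : Red P l) (hr' : Red P l') (e : Eqv P l'.prod l.prod)
    {v : S} (hv : ∀ u ∈ U, 𝐀 u v = v) :
    Γ l v = Γ l' (𝐀 (l'.prod⁻¹ * l.prod) v) := by
  have hv' : ∀ u ∈ U, 𝐀 u (𝐀 (l'.prod⁻¹ * l.prod) v) = 𝐀 (l'.prod⁻¹ * l.prod) v := by
    intro u hu
    have := conj_mem_U_of_H hs (inv_mem e) hu
    rw [inv_inv] at this
    rw [← act_mul, show u * (l'.prod⁻¹ * l.prod) = (l'.prod⁻¹ * l.prod) *
      ((l'.prod⁻¹ * l.prod)⁻¹ * u * (l'.prod⁻¹ * l.prod)) by group, act_mul, hv _ this]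
  have hfix : ∀ {l : List G} {v : S}, (∀ u ∈ U, 𝐀 u v = v) →
      ∀ a ∈ fixU P U l.prod, 𝐀 a (𝐀 l.prod v) = 𝐀 l.prod v := by
    intro l v hv a ha
    rw [← act_mul, show a * l.prod = l.prod * (l.prod⁻¹ * a * l.prod) by group, act_mul,
      hv _ (hs.conj_U ha.1 ha.2)]
  rw [← tr_word hs hw hl hr v (hfix hv), ← tr_word hs hw hl hr' _ (hfix hv'), fixU_congr e,
    ← act_mul, mul_inv_cancel_left]

/-- Two equal Hecke operators shrink to one. -/
theorem gam_gam {t : G} (ht : t ∈ P.S) (V : Submodule k S) (hfix : ∀ v ∈ V, ∀ u ∈ U, 𝐀 u v = v)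
    (htor : ∀ v ∈ V, ∀ h ∈ P.B ⊓ P.N, 𝐀 h v ∈ V) {v : S} (hv : v ∈ V) :
    γ t (γ t v) ∈ V.map (γ t) := by
  rw [gam_apply w t v, map_sum]
  refine Submodule.sum_mem _ fun y _ => ?_
  by_cases hy : (y : G) = 1
  · have h0 : γ t (𝐀 ((y : G) * t) v) = 0 := by
      rw [hy, one_mul, gam_apply]
      have hvv := hfix _ (htor v hv _ (sq_mem_H ht))
      have e : ∀ x : Xsub P U w t, 𝐀 ((x : G) * t) (𝐀 t v) = 𝐀 (t * t) v := fun x => by
        rw [← act_mul, mul_assoc, act_mul, hvv _ x.2.1]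
      rw [Finset.sum_congr rfl fun x _ => e x, Finset.sum_const, Finset.card_univ,
        ← Nat.card_eq_fintype_card, ← Nat.cast_smul_eq_nsmul k]
      suffices hdvd : p ∣ Nat.card (Xsub P U w t) by
        rw [(CharP.cast_eq_zero_iff k p _).2 hdvd, zero_smul]
      obtain ⟨u, hu, hne⟩ := SplitBN.exists_U_moved hs ht
      obtain ⟨x, hx, -, hxt⟩ := exists_X_coset hs hw hl ht hu
      have hnt : x ≠ 1 := fun e => hne (by simpa [e] using hxt)
      obtain ⟨i, hi⟩ := (IsPGroup.iff_card (p := p)).1 (hs.pgroup.to_le (fixU_le (t * w)))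
      rw [show Nat.card (Xsub P U w t) = Nat.card (fixU P U (t * w)) from rfl, hi]
      refine dvd_pow_self p fun h0 => hnt ?_
      rw [h0, pow_zero] at hi
      exact Subgroup.mem_bot.1 ((Subgroup.eq_bot_of_card_eq _ hi).le hx)
    rw [h0]
    exact zero_mem _
  · have hnf : t⁻¹ * (y : G) * t ∉ P.B := fun h => hy (X_inter hs hw hl ht y.2 h)
    obtain ⟨u, hu, e⟩ := orbit_cell (s_mem_N ht) hs (conj_inv_cell hs ht y.2.1 hnf)
    have hb := QuotientGroup.eq.1 e
    set b := (u * t)⁻¹ * (t * (y : G) * t⁻¹) * (t * t) with hbdef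
    have hbB : b ∈ P.B := P.B.mul_mem hb (sq_mem_H ht).1
    obtain ⟨u', hu', h', hh', eb⟩ := hs.decomp b hbB
    obtain ⟨x0, hx0, -, ha⟩ := exists_X_coset hs hw hl ht hu
    set v2 := 𝐀 h' v with hv2
    have hv2V : v2 ∈ V := htor v hv h' hh'
    refine ⟨v2, hv2V, ?_⟩
    rw [gam_apply, gam_apply]
    symm
    refine Fintype.sum_bijective (fun x : Xsub P U w t => x * ⟨x0, hx0⟩)
      (Group.mulRight_bijective _) _ _ fun x => ?_
    have hUa : t⁻¹ * (x0⁻¹ * u) * t ∈ U := hs.conj_U (mul_mem (inv_mem hx0.1) hu) ha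
    rw [← act_mul, show (x : G) * t * ((y : G) * t) = ((x : G) * x0 * t) * (t⁻¹ * (x0⁻¹ * u) * t) * b by
      rw [hbdef]; group, eb]
    rw [act_mul, act_mul _ h', act_mul _ (t⁻¹ * (x0⁻¹ * u) * t), ← hv2, hfix _ hv2V _ hu',
      hfix _ hv2V _ hUa, Subgroup.coe_mul]

theorem exists_red_front {t n : G} (ht : t ∈ P.S) (hn : n ∈ P.N) (hdown : len P (t * n) < len P n) :
    ∃ l, Red P (t :: l) ∧ Eqv P (t :: l).prod n := by
  have _ := hs; have _ := hl; have _ := hw
  have htn := P.N.mul_mem (s_mem_N ht) hn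
  obtain ⟨l, hlw, hlen, he⟩ := exists_len htn
  have e : Eqv P (t :: l).prod n := by
    rw [List.prod_cons]; exact (he.mul_left t).trans (eqv_twice ht hn)
  have hw' : IsWord P (t :: l) := hlw.cons ht
  have h1 := len_le_of_word hw' e
  have h2 := len_le_mul ht hn
  rw [List.length_cons, hlen] at h1
  exact ⟨l, ⟨hw', by rw [len_congr e, List.length_cons, hlen]; omega⟩, e⟩

/-- Every Hecke operator kills or permutes a minimal stable space. -/
theorem dichotomy {W : Submodule k S} (hne : W ≠ ⊥) (hW : Stable P U w W)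
    (hmin : ∀ W' : Submodule k S, W' ≠ ⊥ → Stable P U w W' → W' ≤ W → W' = W) {t : G} (ht : t ∈ P.S) :
    (∀ v ∈ W, γ t v = 0) ∨ W ≤ W.map (γ t) := by
  classical
  let Q : ℕ → Prop := fun m => ∃ l : List G, Red P l ∧ l.length = m ∧ W.map (Γ l) ≠ ⊥
  have hbound : ∀ m, Q m → m ≤ len P w := by
    rintro m ⟨l, hr, rfl, -⟩
    have := len_mul_long hw hl hr.1.prod_mem
    rw [hr.2] at this
    omega
  have h0 : Q 0 := ⟨[], red_nil, rfl, by simpa [gamL] using hne⟩
  obtain ⟨l, hr, hlm, hl0⟩ := Nat.findGreatest_spec (P := Q) (Nat.zero_le (len P w)) h0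
  have hmax : ∀ l' : List G, Red P l' → W.map (Γ l') ≠ ⊥ → l'.length ≤ l.length := by
    intro l' hr' h'
    rw [hlm]
    exact Nat.le_findGreatest (hbound _ ⟨l', hr', rfl, h'⟩) ⟨l', hr', rfl, h'⟩
  set W0 := W.map (Γ l)
  have hle : W0 ≤ W := by
    rintro _ ⟨v, hv, rfl⟩
    exact gamL_stable hs hw hl hW hr.1 v hv
  have hup : ∀ s ∈ P.S, len P l.prod < len P (s * l.prod) → ∀ v ∈ W, γ s (Γ l v) = 0 := by
    intro s hsS hlt v hv
    by_contra hv0
    have hr' : Red P (s :: l) := ⟨hr.1.cons hsS, by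
      rw [List.prod_cons, List.length_cons, ← hr.2]
      have := len_mul_le hsS hr.1.prod_mem
      omega⟩
    have := hmax _ hr' fun e => hv0 (by
      have h1 : Γ (s :: l) v ∈ W.map (Γ (s :: l)) := Submodule.mem_map_of_mem hv
      rw [e] at h1
      exact (Submodule.mem_bot k).1 h1)
    simp at this
  have hdown : ∀ s ∈ P.S, len P (s * l.prod) < len P l.prod →
      ∃ V : Submodule k S, V ≤ W ∧ W0 ≤ V.map (γ s) ∧ ∀ v ∈ W0, γ s v ∈ W0 := by
    intro s hsS hlt
    obtain ⟨m, hr', e⟩ := exists_red_front hs hw hl hsS hr.1.prod_mem hlt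
    have hmW : IsWord P m := hr'.1.sublist (List.sublist_cons_self s m)
    have hfwd : W0 ≤ (W.map (Γ m)).map (γ s) := by
      rintro _ ⟨v, hv, rfl⟩
      rw [gamL_congr hs hw hl hr hr' e (hW.fix v hv)]
      exact ⟨_, Submodule.mem_map_of_mem (hW.torus v hv _ e), rfl⟩
    have hbwd : (W.map (Γ m)).map (γ s) ≤ W0 := by
      rintro _ ⟨_, ⟨v, hv, rfl⟩, rfl⟩
      show Γ (s :: m) v ∈ W0
      rw [gamL_congr hs hw hl hr' hr e.symm (hW.fix v hv)]
      exact Submodule.mem_map_of_mem (hW.torus v hv _ e.symm)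
    have hVW : W.map (Γ m) ≤ W := by
      rintro _ ⟨v, hv, rfl⟩
      exact gamL_stable hs hw hl hW hmW v hv
    refine ⟨W.map (Γ m), hVW, hfwd, fun v hv => ?_⟩
    obtain ⟨v', hv', rfl⟩ := hfwd hv
    refine hbwd (gam_gam hs hw hl hsS (W.map (Γ m)) (fun x hx => hW.fix x (hVW hx)) ?_ hv')
    rintro _ ⟨x, hx, rfl⟩ h hh
    obtain ⟨x', hx', ex⟩ := gamL_torus hs hw hl hW hmW h hh x hx
    exact ⟨x', hx', ex.symm⟩
  have hW0 : Stable P U w W0 := by
    refine ⟨fun v hv => hW.fix v (hle hv), ?_, ?_, ?_⟩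
    · rintro _ ⟨v, hv, rfl⟩ h hh
      obtain ⟨v', hv', e⟩ := gamL_torus hs hw hl hW hr.1 h hh v hv
      exact ⟨v', hv', e.symm⟩
    · intro v hv s hsS
      rcases len_up_or_down hsS hr.1.prod_mem with h | h
      · obtain ⟨v', hv', rfl⟩ := hv
        rw [hup s hsS (by omega) v' hv']
        exact zero_mem _
      · obtain ⟨V, -, -, hV⟩ := hdown s hsS (by omega)
        exact hV v hv
    · rintro _ ⟨v, hv, rfl⟩ e
      refine ⟨e v, hW.endo v hv e, ?_⟩
      clear hup hdown hle hl0 hmax hlm hr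
      induction l with
      | nil => rfl
      | cons t l ih =>
        simp only [gamL, LinearMap.comp_apply]
        rw [ih, gam_apply, gam_apply, map_sum]
        exact Finset.sum_congr rfl fun x _ => (act_commute e _ _).symm
  have hW0e := hmin W0 hl0 hW0 hle
  rcases len_up_or_down ht hr.1.prod_mem with h | h
  · left
    intro v hv
    rw [← hW0e] at hv
    obtain ⟨v', hv', rfl⟩ := hv
    exact hup t ht (by omega) v' hv'
  · right
    obtain ⟨V, hVW, hV, -⟩ := hdown t ht (by omega)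
    rw [← hW0e] at hVW ⊢
    exact hV.trans (Submodule.map_mono hVW)

theorem long_inv : Eqv P w w⁻¹ :=
  LongJ.eqv subset_rfl (by rw [NJ_S]; exact hw) hl (by rw [NJ_S]; exact inv_mem hw)
    (by rw [len_inv hw])

/-- The translate of a root element by a generator moves `W` into the translates under the opposite
unipotent group. -/
theorem opp_key {W : Submodule k S} (hW : Stable P U w W) {t : G} (ht : t ∈ P.S)
    (hdich : (∀ v ∈ W, γ t v = 0) ∨ W ≤ W.map (γ t)) {y : G} (hy : y ∈ Xsub P U w t) {v : S}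
    (hv : v ∈ W) : 𝐀 (y * t) v ∈
      Submodule.span k {x | ∃ η : G, w * η * w⁻¹ ∈ U ∧ ∃ v ∈ W, x = 𝐀 η v} := by
  have htN := s_mem_N (P := P) ht
  have hup : len P (w * t * t) = len P (w * t) + 1 := by
    rw [len_congr (eqv_twice_right ht)]
    have h1 := LongJ.sub subset_rfl (by rw [NJ_S]; exact hw) hl
      (show t ∈ NJ P P.S by rw [NJ_S]; exact htN)
    rw [len_s ht] at h1
    omega
  have hmem : ∀ x ∈ Xsub P U w t, w * (t * x * t⁻¹) * w⁻¹ ∈ U := by
    intro x hx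
    rw [show w * (t * x * t⁻¹) * w⁻¹ = w * t * x * (w * t)⁻¹ by group]
    exact conj_X hs hw hl ht (P.N.mul_mem hw htN) hup hx
  have hpair : ∀ y ∈ Xsub P U w t, y ≠ 1 → ∀ v ∈ W, 𝐀 (y * t) v ∈
      Submodule.span k {x | ∃ η : G, w * η * w⁻¹ ∈ U ∧ ∃ v ∈ W, x = 𝐀 η v} := by
    intro y hy hy1 v hv
    obtain ⟨x, hx, -, hb⟩ := exists_pair hs hw hl ht hy hy1
    obtain ⟨u, hu, h, hh, e⟩ := hs.decomp _ hb
    refine Submodule.subset_span ⟨t * x * t⁻¹, hmem x hx, 𝐀 h v, hW.torus v hv h hh, ?_⟩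
    rw [show y * t = t * x * t⁻¹ * ((t * x * t⁻¹)⁻¹ * (y * t)) by group, e, act_mul (t * x * t⁻¹),
      act_mul u h, hW.fix _ (hW.torus v hv h hh) u hu]
  by_cases hy1 : y = 1
  swap
  · exact hpair y hy hy1 v hv
  subst hy1
  rw [one_mul]
  rcases hdich with h0 | hsur
  · have h1 := h0 v hv
    letI := Classical.decEq (Xsub P U w t)
    rw [gam_apply, ← Finset.sum_erase_add _ _ (Finset.mem_univ (1 : Xsub P U w t))] at h1
    rw [OneMemClass.coe_one, one_mul] at h1
    rw [eq_neg_of_add_eq_zero_right h1]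
    refine Submodule.neg_mem _ (Submodule.sum_mem _ fun x hx => hpair _ x.2 ?_ v hv)
    exact fun e => (Finset.mem_erase.1 hx).1 (Subtype.ext e)
  · obtain ⟨v1, hv1, e⟩ := hsur hv
    rw [← e, gam_apply, map_sum]
    refine Submodule.sum_mem _ fun x _ =>
      Submodule.subset_span ⟨t * (x : G) * t⁻¹, hmem _ x.2, 𝐀 (t * t) v1,
        hW.torus v1 hv1 _ (sq_mem_H ht), ?_⟩
    rw [← act_mul, ← act_mul]
    congr 2
    group

/-- The module is spanned by the translates of `W` under `U w`, and under the opposite unipotent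
group. -/
theorem span_eq_top [IsSimpleModule (MonoidAlgebra k G) S] {W : Submodule k S} (hne : W ≠ ⊥)
    (hW : Stable P U w W) (hdich : ∀ t ∈ P.S, (∀ v ∈ W, γ t v = 0) ∨ W ≤ W.map (γ t)) :
    Submodule.span k {x | ∃ u ∈ U, ∃ v ∈ W, x = 𝐀 (u * w) v} = ⊤ ∧
      Submodule.span k {x | ∃ η : G, w * η * w⁻¹ ∈ U ∧ ∃ v ∈ W, x = 𝐀 η v} = ⊤ := by
  set Z := Submodule.span k {x | ∃ u ∈ U, ∃ v ∈ W, x = 𝐀 (u * w) v} with hZ
  set Zm := Submodule.span k {x | ∃ η : G, w * η * w⁻¹ ∈ U ∧ ∃ v ∈ W, x = 𝐀 η v} with hZm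
  have hwm : Zm.map (𝐀 w) ≤ Z := by
    rw [hZm, Submodule.map_span_le]
    rintro _ ⟨η, hη, v, hv, rfl⟩
    refine Submodule.subset_span ⟨w * η * w⁻¹, hη, v, hv, ?_⟩
    rw [← act_mul, inv_mul_cancel_right]
  let St : Submonoid G :=
    { carrier := {g | Z.map (𝐀 g) ≤ Z}
      one_mem' := by
        rintro _ ⟨x, hx, rfl⟩
        rwa [act_one]
      mul_mem' := fun {a b} ha hb => by
        rintro _ ⟨x, hx, rfl⟩
        rw [act_mul]
        exact ha (Submodule.mem_map_of_mem (hb (Submodule.mem_map_of_mem hx))) }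
  let Sg : Subgroup G :=
    { St with
      inv_mem' := fun {g} hg => by
        rw [show g⁻¹ = g ^ (orderOf g - 1) from inv_eq_of_mul_eq_one_right (by
          rw [← pow_succ', Nat.sub_add_cancel (orderOf_pos g), pow_orderOf_eq_one])]
        exact St.pow_mem hg _ }
  have hU : U ≤ Sg := by
    intro a ha
    show Z.map (𝐀 a) ≤ Z
    rw [hZ, Submodule.map_span_le]
    rintro _ ⟨u, hu, v, hv, rfl⟩
    exact Submodule.subset_span ⟨a * u, mul_mem ha hu, v, hv, by rw [← act_mul, mul_assoc]⟩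
  have hH : P.B ⊓ P.N ≤ Sg := by
    intro h hh
    show Z.map (𝐀 h) ≤ Z
    rw [hZ, Submodule.map_span_le]
    rintro _ ⟨u, hu, v, hv, rfl⟩
    refine Submodule.subset_span ⟨h * u * h⁻¹, conj_mem_U_of_H hs hh hu, 𝐀 (w⁻¹ * h * w) v,
      hW.torus v hv _ (conj_mem_H' hw hh), ?_⟩
    rw [← act_mul, ← act_mul]
    congr 2
    group
  have hS : P.S ⊆ Sg := by
    intro s hsS
    show Z.map (𝐀 s) ≤ Z
    rw [hZ, Submodule.map_span_le]
    rintro _ ⟨u, hu, v, hv, rfl⟩
    have hsN := s_mem_N (P := P) hsS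
    obtain ⟨x, hx, hxu, hxs⟩ := exists_X_coset hs hw hl hsS (inv_mem hu)
    set a := u * x with hadef
    have hau : a = (x⁻¹ * u⁻¹)⁻¹ := by rw [hadef]; group
    have ha : a ∈ U := hau ▸ inv_mem hxu
    have has : s * a * s⁻¹ ∈ U := by
      have h1 : s * a * s⁻¹ ∈ P.B := by
        have h2 := inv_mem hxs
        rw [show (s⁻¹ * (x⁻¹ * u⁻¹) * s)⁻¹ = s⁻¹ * a * s by rw [hadef]; group] at h2
        rw [show s * a * s⁻¹ = (s * s) * (s⁻¹ * a * s) * (s * s)⁻¹ by group]
        exact mul_mem (mul_mem (sq_mem_H hsS).1 h2) (inv_mem (sq_mem_H hsS).1)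
      have := hs.conj_U (g := s⁻¹) ha (by simpa using h1)
      simpa using this
    have hu' : u = a * x⁻¹ := by rw [hadef]; group
    rw [hu', ← act_mul, show s * (a * x⁻¹ * w) = s * a * s⁻¹ * (s * x⁻¹ * w) by group, act_mul]
    refine hU has (Submodule.mem_map_of_mem ?_)
    have hx' : x⁻¹ ∈ Xsub P U w s := inv_mem hx
    clear_value a
    generalize x⁻¹ = x at hx' ⊢
    -- pull `w` out on the left
    have hlen1 : len P (w⁻¹ * s * w) = 1 := by
      have h1 := len_mul_long hw hl (mul_mem (inv_mem hw) hsN)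
      have h2 := len_t_long hw hl hsS
      have h3 : len P (w⁻¹ * s) = len P (s * w) := by
        rw [← len_inv (mul_mem (inv_mem hw) hsN), mul_inv_rev, inv_inv]
        exact len_congr ((eqv_inv_self hsS).symm.mul_right hw)
      omega
    obtain ⟨l, hlw, hllen, hle⟩ := exists_len (mul_mem (mul_mem (inv_mem hw) hsN) hw)
    rw [hlen1] at hllen
    obtain ⟨t, rfl⟩ := List.length_eq_one_iff.1 hllen
    have ht : t ∈ P.S := hlw t (by simp)
    rw [List.prod_singleton] at hle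
    have e1 : Eqv P (t * w) (w⁻¹ * s) := by
      have h1 := hle.mul_right (inv_mem hw)
      rw [mul_inv_cancel_right] at h1
      exact (((long_inv hs hw hl).mul_left t)).trans h1
    have hup : len P (w⁻¹ * s * s) = len P (w⁻¹ * s) + 1 := by
      rw [len_congr (eqv_twice_right hsS), len_inv hw, ← len_congr e1]
      have := len_t_long hw hl ht
      omega
    set y := w⁻¹ * s * x * (w⁻¹ * s)⁻¹ with hydef
    have hy : y ∈ Xsub P U w t := by
      rw [Xsub, fixU_congr e1]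
      refine ⟨conj_X hs hw hl hsS (mul_mem (inv_mem hw) hsN) hup hx', ?_⟩
      rw [show (w⁻¹ * s)⁻¹ * y * (w⁻¹ * s) = x by rw [hydef]; group]
      exact hs.le hx'.1
    have hh : t⁻¹ * (w⁻¹ * s * w) ∈ P.B ⊓ P.N := hle
    rw [show s * x * w = w * (y * t * (t⁻¹ * (w⁻¹ * s * w))) by rw [hydef]; group, act_mul, act_mul]
    exact hwm (Submodule.mem_map_of_mem
      (opp_key hs hw hl hW ht (hdich t ht) hy (hW.torus v hv _ hh)))
  have htop : Sg = ⊤ := by
    refine top_le_iff.1 ?_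
    rw [← P.sup_eq_top]
    refine sup_le (fun b hb => ?_) ?_
    · obtain ⟨u, hu, h, hh, rfl⟩ := hs.decomp b hb
      exact mul_mem (hU hu) (hH hh)
    · rw [← P.closure_sup]
      exact sup_le ((Subgroup.closure_le _).2 hS) hH
  have hg : ∀ g : G, ∀ x ∈ Z, 𝐀 g x ∈ Z := fun g x hx =>
    (htop.ge (Subgroup.mem_top g) : Z.map (𝐀 g) ≤ Z) (Submodule.mem_map_of_mem hx)
  let ZR : Submodule (MonoidAlgebra k G) S :=
    { carrier := Z
      add_mem' := Z.add_mem
      zero_mem' := Z.zero_mem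
      smul_mem' := fun r x hx => by
        induction r using MonoidAlgebra.induction_on with
        | of g => exact hg g x hx
        | add r r' h h' => rw [add_smul]; exact Z.add_mem h h'
        | smul c r h => rw [smul_assoc]; exact Z.smul_mem c h }
  have hZne : Z ≠ ⊥ := by
    intro h
    obtain ⟨v, hv, hv0⟩ := Submodule.exists_mem_ne_zero_of_ne_bot hne
    have h1 : 𝐀 (1 * w) v ∈ Z := Submodule.subset_span ⟨1, one_mem _, v, hv, rfl⟩
    rw [h, Submodule.mem_bot, one_mul] at h1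
    apply hv0
    have := congrArg (𝐀 w⁻¹) h1
    rwa [← act_mul, inv_mul_cancel, act_one, map_zero] at this
  have hZtop : Z = ⊤ := by
    rcases eq_bot_or_eq_top ZR with h | h
    · exact absurd (eq_bot_iff.2 fun x hx => (Submodule.mem_bot k).2
        ((Submodule.mem_bot _).1 (h.le (show x ∈ ZR from hx)))) hZne
    · exact eq_top_iff.2 fun x _ => (h.ge Submodule.mem_top : x ∈ ZR)
  refine ⟨hZtop, eq_top_iff.2 fun x _ => ?_⟩
  have h1 : Z ≤ Zm.comap (𝐀 w⁻¹) := by
    rw [hZ, Submodule.span_le]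
    rintro _ ⟨u, hu, v, hv, rfl⟩
    refine Submodule.subset_span ⟨w⁻¹ * u * w, ?_, v, hv, ?_⟩
    · simpa [mul_assoc] using hu
    · rw [← act_mul, mul_assoc]
  have := h1 (hZtop.ge (Submodule.mem_top (x := 𝐀 w x)))
  rwa [Submodule.mem_comap, ← act_mul, inv_mul_cancel, act_one] at this

/-- A functional fixed by the opposite unipotent group stays fixed under a Hecke operator. -/
theorem lam_gam {l0 : S →ₗ[k] k} (hinv : ∀ η : G, w * η * w⁻¹ ∈ U → ∀ z, l0 (𝐀 η z) = l0 z)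
    {t : G} (ht : t ∈ P.S) {η : G} (hη : w * η * w⁻¹ ∈ U) (z : S) :
    l0 (γ t (𝐀 η z)) = l0 (γ t z) := by
  have htN := s_mem_N (P := P) ht
  have hlen2 : len P (w * t) + 1 = len P w := by
    have h1 := LongJ.sub subset_rfl (by rw [NJ_S]; exact hw) hl
      (show t ∈ NJ P P.S by rw [NJ_S]; exact htN)
    rwa [len_s ht] at h1
  have hlen1 : len P (w * t * w⁻¹) = 1 := by
    have hx : t * w⁻¹ ∈ P.N := mul_mem htN (inv_mem hw)
    have h1 := LongJ.sub subset_rfl (by rw [NJ_S]; exact hw) hl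
      (show t * w⁻¹ ∈ NJ P P.S by rw [NJ_S]; exact hx)
    rw [← mul_assoc] at h1
    have h2 : len P (t * w⁻¹) = len P (w * t) := by
      rw [← len_inv hx, mul_inv_rev, inv_inv]
      exact len_congr ((eqv_inv_self ht).symm.mul_left w)
    omega
  obtain ⟨l, hlw, hllen, hle⟩ := exists_len (mul_mem (mul_mem hw htN) (inv_mem hw))
  rw [hlen1] at hllen
  obtain ⟨t', rfl⟩ := List.length_eq_one_iff.1 hllen
  have ht' : t' ∈ P.S := hlw t' (by simp)
  rw [List.prod_singleton] at hle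
  set T := t'⁻¹ * (w * t * w⁻¹) with hTdef
  have hT : T ∈ P.B ⊓ P.N := hle
  have hTt : w * t * w⁻¹ = t' * T := by rw [hTdef]; group
  -- the part of the opposite group kept by `t`
  have hnormal : ∀ a ∈ fixU P U t', ∀ u ∈ U, u * a * u⁻¹ ∈ fixU P U t' := fun a ha u hu =>
    ⟨mul_mem (mul_mem hu ha.1) (inv_mem hu), hs.rankone t' ht' u hu a ha.1 ha.2⟩
  have hstab : ∀ a ∈ fixU P U t', t' * T * a * (t' * T)⁻¹ ∈ fixU P U t' ∧
      (t' * T)⁻¹ * a * (t' * T) ∈ fixU P U t' := by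
    intro a ha
    have hTT : ∀ h ∈ P.B ⊓ P.N, ∀ a ∈ fixU P U t', h * a * h⁻¹ ∈ fixU P U t' := by
      intro h hh a ha
      refine ⟨conj_mem_U_of_H hs hh ha.1, ?_⟩
      have h' := (conj_mem_H' (s_mem_N ht') hh).1
      have := P.B.mul_mem (P.B.mul_mem h' ha.2) (P.B.inv_mem h')
      rwa [show (t'⁻¹ * h * t') * (t'⁻¹ * a * t') * (t'⁻¹ * h * t')⁻¹ =
        t'⁻¹ * (h * a * h⁻¹) * t' by group] at this
    have hflip : ∀ a ∈ fixU P U t', t' * a * t'⁻¹ ∈ fixU P U t' := by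
      intro a ha
      have h1 : t' * a * t'⁻¹ ∈ P.B := by
        rw [show t' * a * t'⁻¹ = (t' * t') * (t'⁻¹ * a * t') * (t' * t')⁻¹ by group]
        exact mul_mem (mul_mem (sq_mem_H ht').1 ha.2) (inv_mem (sq_mem_H ht').1)
      refine ⟨by simpa using hs.conj_U (g := t'⁻¹) ha.1 (by simpa using h1), ?_⟩
      rw [show t'⁻¹ * (t' * a * t'⁻¹) * t' = a by group]
      exact hs.le ha.1
    refine ⟨?_, ?_⟩
    · have := hflip _ (hTT T hT a ha)
      rwa [show t' * (T * a * T⁻¹) * t'⁻¹ = t' * T * a * (t' * T)⁻¹ by group] at this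
    · have h1 : t'⁻¹ * a * t' ∈ fixU P U t' :=
        ⟨hs.conj_U ha.1 ha.2, by
          rw [show t'⁻¹ * (t'⁻¹ * a * t') * t' = (t'⁻¹ * t'⁻¹) * a * (t'⁻¹ * t'⁻¹)⁻¹ by
            simp only [mul_inv_rev, inv_inv, mul_assoc]]
          exact mul_mem (mul_mem (eqv_sq_inv ht').1 (hs.le ha.1)) (inv_mem (eqv_sq_inv ht').1)⟩
      have := hTT T⁻¹ (inv_mem hT) _ h1
      rwa [show T⁻¹ * (t'⁻¹ * a * t') * T⁻¹⁻¹ = (t' * T)⁻¹ * a * (t' * T) by group] at this
  -- splitting `η`
  obtain ⟨x', hx', hxu, hxt⟩ := exists_X_coset hs hw hl ht' (inv_mem hη)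
  set a := w * η * w⁻¹ * x' with hadef
  have ha : a ∈ fixU P U t' := by
    have e : a = (x'⁻¹ * (w * η * w⁻¹)⁻¹)⁻¹ := by rw [hadef]; group
    refine ⟨e ▸ inv_mem hxu, ?_⟩
    rw [show t'⁻¹ * a * t' = (t'⁻¹ * (x'⁻¹ * (w * η * w⁻¹)⁻¹) * t')⁻¹ by rw [e]; group]
    exact inv_mem hxt
  set x1 := (w * t)⁻¹ * x'⁻¹ * (w * t) with hx1def
  have hewt : Eqv P (t' * w) (w * t) := by
    have := hle.mul_right hw
    rwa [inv_mul_cancel_right] at this
  have hx1 : x1 ∈ Xsub P U w t := by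
    have h1 : x'⁻¹ ∈ fixU P U (w * t) := by rw [← fixU_congr hewt]; exact inv_mem hx'
    refine ⟨hs.conj_U h1.1 h1.2, ?_⟩
    rw [show (t * w)⁻¹ * x1 * (t * w) = (w * t * (t * w))⁻¹ * x'⁻¹ * (w * t * (t * w)) by
      rw [hx1def]; group]
    have e : w * t * (t * w) = w * (t * t) * w := by group
    have hww : w * (t * t) * w ∈ P.B ⊓ P.N := by
      have h2 : w * w ∈ P.B ⊓ P.N := by
        have := (long_inv hs hw hl).symm
        rwa [Eqv, inv_inv] at this
      rw [show w * (t * t) * w = w * (t * t) * w⁻¹ * (w * w) by group]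
      exact mul_mem (conj_mem_H hw (sq_mem_H ht)) h2
    rw [e]
    exact P.B.mul_mem (P.B.mul_mem (P.B.inv_mem hww.1) (hs.le h1.1)) hww.1
  have hηe : η = w⁻¹ * a * w * (t * x1 * t⁻¹) := by rw [hadef, hx1def]; group
  rw [gam_apply, gam_apply, map_sum, map_sum]
  set f : G → k := fun g => l0 (𝐀 g z) with hf
  have hkill : ∀ x ∈ Xsub P U w t, ∀ g : G, f (x * t * (w⁻¹ * a * w) * g) = f (x * t * g) := by
    intro x hx g
    set a1 := t' * T * a * (t' * T)⁻¹ with ha1
    have ha1m := (hstab a ha).1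
    have hY : w * (t * x * t⁻¹) * w⁻¹ ∈ U := by
      rw [show w * (t * x * t⁻¹) * w⁻¹ = w * t * x * (w * t)⁻¹ by group]
      refine conj_X hs hw hl ht (mul_mem hw htN) ?_ hx
      rw [len_congr (eqv_twice_right ht)]
      omega
    set Y := w * (t * x * t⁻¹) * w⁻¹ with hYdef
    have hm1 := (hstab _ (hnormal _ ((hstab _ ha1m).1) Y hY)).2
    have e1 : x * t * (w⁻¹ * a * w) * g =
        w⁻¹ * ((t' * T)⁻¹ * (Y * (t' * T * a1 * (t' * T)⁻¹) * Y⁻¹) * (t' * T)) * w * (x * t * g) := by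
      rw [ha1, ← hTt, hYdef]; group
    rw [e1, hf]
    simp only
    rw [act_mul, hinv _ (by
      rw [show w * (w⁻¹ * ((t' * T)⁻¹ * (Y * (t' * T * a1 * (t' * T)⁻¹) * Y⁻¹) * (t' * T)) * w) *
        w⁻¹ = (t' * T)⁻¹ * (Y * (t' * T * a1 * (t' * T)⁻¹) * Y⁻¹) * (t' * T) by group]
      exact hm1.1)]
  have hxx : (t * t) * x1 * (t * t)⁻¹ ∈ Xsub P U w t := by
    refine ⟨conj_mem_U_of_H hs (sq_mem_H ht) hx1.1, ?_⟩
    have h' := (conj_mem_H' (mul_mem htN hw) (sq_mem_H ht)).1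
    have := P.B.mul_mem (P.B.mul_mem h' hx1.2) (P.B.inv_mem h')
    rwa [show ((t * w)⁻¹ * (t * t) * (t * w)) * ((t * w)⁻¹ * x1 * (t * w)) *
      ((t * w)⁻¹ * (t * t) * (t * w))⁻¹ = (t * w)⁻¹ * ((t * t) * x1 * (t * t)⁻¹) * (t * w) by group] at this
  refine Fintype.sum_bijective (fun x : Xsub P U w t => x * ⟨_, hxx⟩) (Group.mulRight_bijective _)
    _ _ fun x => ?_
  rw [← act_mul, Subgroup.coe_mul]
  show f ((x : G) * t * η) = f ((x : G) * ((t * t) * x1 * (t * t)⁻¹) * t)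
  rw [hηe, ← mul_assoc, hkill _ x.2]
  congr 1
  group

theorem lam_gamL : ∀ {l : List G}, IsWord P l → ∀ {l0 : S →ₗ[k] k},
    (∀ η : G, w * η * w⁻¹ ∈ U → ∀ z, l0 (𝐀 η z) = l0 z) →
      ∀ η : G, w * η * w⁻¹ ∈ U → ∀ z, l0 (Γ l (𝐀 η z)) = l0 (Γ l z) := by
  intro l
  induction l with
  | nil => intro _ l0 h η hη z; exact h η hη z
  | cons t l ih =>
    intro hlw l0 h η hη z
    exact ih (hlw.sublist (List.sublist_cons_self t l)) (l0 := l0 ∘ₗ γ t)
      (fun η' hη' z' => lam_gam hs hw hl h (hlw t (by simp)) hη' z') η hη z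

/-- **Vanishing**: a fixed functional kills the traces from chambers beyond a killed generator. -/
theorem vanish [IsSimpleModule (MonoidAlgebra k G) S] {W : Submodule k S} (hne : W ≠ ⊥)
    (hW : Stable P U w W) (hdich : ∀ t ∈ P.S, (∀ v ∈ W, γ t v = 0) ∨ W ≤ W.map (γ t))
    {s : G} (hsS : s ∈ P.S) (hkill : ∀ v ∈ W, γ s v = 0) {l0 : S →ₗ[k] k}
    (hinv : ∀ η : G, w * η * w⁻¹ ∈ U → ∀ z, l0 (𝐀 η z) = l0 z)
    {n : G} (hn : n ∈ P.N) (hns : n ∉ NJ P (P.S \ {s})) {z : S}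
    (hz : ∀ a ∈ fixU P U n, 𝐀 a z = z) : l0 (tr 𝐀 (fixU P U n) U z) = 0 := by
  obtain ⟨l, hlw, hllen, he⟩ := exists_len hn
  have hsl : s ∈ l := by
    by_contra hsl
    exact hns (eqv_mem_NJ he (prod_mem_NJ fun x hx =>
      ⟨hlw x hx, fun e => hsl (Set.mem_singleton_iff.1 e ▸ hx)⟩))
  obtain ⟨l1, l2, rfl⟩ := List.append_of_mem hsl
  have h1w : IsWord P l1 := hlw.sublist (List.sublist_append_left _ _)
  have h2w : IsWord P l2 := hlw.sublist
    ((List.sublist_cons_self s l2).trans (List.sublist_append_right _ _))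
  set m := l1.prod with hm
  have hmN : m ∈ P.N := h1w.prod_mem
  have hsN := s_mem_N (P := P) hsS
  rw [List.prod_append, List.prod_cons, ← mul_assoc] at he
  rw [List.length_append, List.length_cons] at hllen
  have a1 := len_le_of_word h1w (Eqv.refl (P := P) m)
  have a2 := len_le_of_word h2w (Eqv.refl (P := P) l2.prod)
  have a3 := len_mul_le_add (mul_mem hmN hsN) h2w.prod_mem
  have a4 := len_mul_right_le hsS hmN
  rw [len_congr he] at a3
  have hr1 : Red P l1 := ⟨h1w, by rw [← hm]; omega⟩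
  have hup : len P (m * s) = len P m + 1 := by omega
  have hle : fixU P U n ≤ fixU P U (m * s) := by
    intro u hu
    refine ⟨hu.1, fix_between (one_mem P.N) (mul_mem hmN hsN) hn ?_ (by simpa using hs.le hu.1) hu.2⟩
    have e2 : Eqv P ((m * s)⁻¹ * n) l2.prod := by
      have := (he.symm.mul_left (m * s)⁻¹)
      rwa [inv_mul_cancel_left] at this
    rw [inv_one, one_mul, one_mul, len_congr e2]
    omega
  set z1 := tr 𝐀 (fixU P U n) (fixU P U (m * s)) z with hz1def
  have hz1 : ∀ a ∈ fixU P U (m * s), 𝐀 a z1 = z1 := fun a ha => tr_fixed hz ha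
  set z2 := 𝐀 (m * s)⁻¹ z1 with hz2
  have e3 : 𝐀 (m * s) z2 = z1 := by rw [hz2, ← act_mul, mul_inv_cancel, act_one]
  have hstep := tr_step hs hw hl hsS hmN hup (z := z2) (by rw [e3]; exact hz1)
  rw [e3] at hstep
  have hfix : ∀ a ∈ fixU P U m, 𝐀 a (𝐀 m (γ s z2)) = 𝐀 m (γ s z2) := by
    intro a ha
    rw [← hstep]
    exact tr_fixed hz1 ha
  rw [tr_trans (ρ := 𝐀) hle (fixU_le _) hz, ← hz1def,
    tr_trans (ρ := 𝐀) (fixU_mono hs hw hl hsS hmN hup) (fixU_le _) hz1, hstep,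
    tr_word hs hw hl hr1 (γ s z2) hfix]
  suffices (l0 ∘ₗ Γ l1 ∘ₗ γ s) = 0 from LinearMap.congr_fun this z2
  refine LinearMap.ext_on (span_eq_top hs hw hl hne hW hdich).2 ?_
  rintro _ ⟨η, hη, v, hv, rfl⟩
  rw [LinearMap.zero_apply, LinearMap.comp_apply, LinearMap.comp_apply]
  have := lam_gam hs hw hl (l0 := l0 ∘ₗ Γ l1)
    (fun η' hη' z' => lam_gamL hs hw hl h1w hinv η' hη' z') hsS hη v
  rw [LinearMap.comp_apply, LinearMap.comp_apply] at this
  rw [this, hkill v hv, map_zero, map_zero]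

theorem exists_functional [IsSimpleModule (MonoidAlgebra k G) S] {W : Submodule k S} (hne : W ≠ ⊥)
    (hW : Stable P U w W) (hdich : ∀ t ∈ P.S, (∀ v ∈ W, γ t v = 0) ∨ W ≤ W.map (γ t)) :
    ∃ l0 : S →ₗ[k] k, (∀ η : G, w * η * w⁻¹ ∈ U → ∀ z, l0 (𝐀 η z) = l0 z) ∧
      ∃ v ∈ W, l0 v ≠ 0 := by
  have : Nontrivial S := IsSimpleModule.nontrivial (MonoidAlgebra k G) S
  have : Nontrivial (Module.Dual k S) := inferInstance
  let Um := U.map (MulAut.conj w⁻¹).toMonoidHom
  let τ : Um →* Module.End k (Module.Dual k S) :=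
    { toFun := fun a => (𝐀 (a : G)⁻¹).dualMap
      map_one' := LinearMap.ext fun f => LinearMap.ext fun z => by
        show f (𝐀 ((1 : Um) : G)⁻¹ z) = f z
        rw [OneMemClass.coe_one, inv_one, act_one]
      map_mul' := fun a b => LinearMap.ext fun f => LinearMap.ext fun z => by
        show f (𝐀 ((a * b : Um) : G)⁻¹ z) = f (𝐀 (b : G)⁻¹ (𝐀 (a : G)⁻¹ z))
        rw [← act_mul, Subgroup.coe_mul, mul_inv_rev] }
  obtain ⟨l0, hl0, hfix⟩ := CfsgLib.FGS.FreeCompl.exists_fixed_of_pGroup (hs.pgroup.map _ : IsPGroup p Um) τ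
  have hinv : ∀ η : G, w * η * w⁻¹ ∈ U → ∀ z, l0 (𝐀 η z) = l0 z := by
    intro η hη z
    have hmem : η⁻¹ ∈ Um := inv_mem ⟨_, hη, by simp [mul_assoc]⟩
    have := LinearMap.congr_fun (hfix ⟨η⁻¹, hmem⟩) z
    change l0 (𝐀 (η⁻¹)⁻¹ z) = l0 z at this
    rwa [inv_inv] at this
  refine ⟨l0, hinv, ?_⟩
  by_contra hcon
  push Not at hcon
  refine hl0 (LinearMap.ext_on (span_eq_top hs hw hl hne hW hdich).2 ?_)
  rintro _ ⟨η, hη, v, hv, rfl⟩
  rw [hinv η hη, hcon v hv, LinearMap.zero_apply]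

/-- **Projectivity**: if no Hecke operator kills `W`, the identity is a trace from the trivial
group. -/
theorem exists_trace_one [IsSimpleModule (MonoidAlgebra k G) S] [FiniteDimensional k S]
    {W : Submodule k S} (hne : W ≠ ⊥) (hW : Stable P U w W)
    (hall : ∀ t ∈ P.S, W ≤ W.map (γ t)) :
    ∃ a : MonoidAlgebra k G, ∀ v : S, (∑ g : G, 𝐀 g (a • 𝐀 g⁻¹ v)) = v := by
  classical
  obtain ⟨l, hr, hel⟩ := exists_red hw
  have hsur : ∀ {l : List G}, IsWord P l → W ≤ W.map (Γ l) := by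
    intro l
    induction l with
    | nil => intro _; simp [gamL]
    | cons t l ih =>
      intro hlw
      calc W ≤ W.map (γ t) := hall t (hlw t (by simp))
        _ ≤ (W.map (Γ l)).map (γ t) :=
          Submodule.map_mono (ih (hlw.sublist (List.sublist_cons_self t l)))
        _ = W.map (Γ (t :: l)) := (Submodule.map_comp _ _ _).symm
  let ΓW : W →ₗ[k] W := (Γ l).restrict (gamL_stable hs hw hl hW hr.1)
  have hΓinj : Function.Injective ΓW := LinearMap.injective_iff_surjective.2 fun x => by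
    obtain ⟨v, hv, e⟩ := hsur hr.1 x.2
    exact ⟨⟨v, hv⟩, Subtype.ext e⟩
  let Φ : (U → W) →ₗ[k] S := ∑ u : U, (𝐀 ((u : G) * w) ∘ₗ W.subtype ∘ₗ LinearMap.proj u)
  have hΦ : ∀ φ : U → W, Φ φ = ∑ u : U, 𝐀 ((u : G) * w) (φ u : S) := fun φ => by
    simp [Φ, LinearMap.sum_apply]
  have hΦu : ∀ (a : U) (φ : U → W), Φ (fun u => φ (a⁻¹ * u)) = 𝐀 (a : G) (Φ φ) := by
    intro a φ
    rw [hΦ, hΦ, map_sum]
    refine (Fintype.sum_equiv (Equiv.mulLeft a) _ _ fun u => ?_).symm
    rw [Equiv.coe_mulLeft, inv_mul_cancel_left, ← act_mul, Subgroup.coe_mul, mul_assoc]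
  have hinjΦ : Function.Injective Φ := by
    rw [← LinearMap.ker_eq_bot]
    by_contra hker
    let K := LinearMap.ker Φ
    have : Nontrivial K := Submodule.nontrivial_iff_ne_bot.2 hker
    let σ : U →* Module.End k K :=
      { toFun := fun a => (LinearMap.funLeft k W (fun u => a⁻¹ * u)).restrict fun φ hφ => by
          rw [LinearMap.mem_ker] at hφ ⊢
          show Φ (fun u => φ (a⁻¹ * u)) = 0
          rw [hΦu, hφ, map_zero]
        map_one' := LinearMap.ext fun φ => Subtype.ext (funext fun u => by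
          show φ.1 (1⁻¹ * u) = φ.1 u
          simp)
        map_mul' := fun a b => LinearMap.ext fun φ => Subtype.ext (funext fun u => by
          show φ.1 ((a * b)⁻¹ * u) = φ.1 (b⁻¹ * (a⁻¹ * u))
          rw [mul_inv_rev, mul_assoc]) }
    obtain ⟨⟨φ, hφ⟩, hne', hfix⟩ := CfsgLib.FGS.FreeCompl.exists_fixed_of_pGroup hs.pgroup σ
    have hconst : ∀ u : U, φ u = φ 1 := fun u => by
      have := congrFun (congrArg Subtype.val (hfix u)) u
      change φ (u⁻¹ * u) = φ u at this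
      rw [inv_mul_cancel] at this
      exact this.symm
    set c : S := (φ 1 : S) with hc
    set h := l.prod⁻¹ * w with hh
    have hhH : h ∈ P.B ⊓ P.N := hel
    have hcW : 𝐀 h c ∈ W := hW.torus _ (φ 1).2 h hhH
    have hfx : ∀ a ∈ fixU P U l.prod, 𝐀 a (𝐀 l.prod (𝐀 h c)) = 𝐀 l.prod (𝐀 h c) := by
      intro a ha
      rw [← act_mul, show a * l.prod = l.prod * (l.prod⁻¹ * a * l.prod) by group, act_mul,
        hW.fix _ hcW _ (hs.conj_U ha.1 ha.2)]
    have hzero : Γ l (𝐀 h c) = 0 := by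
      rw [← tr_word hs hw hl hr _ hfx, ← act_mul, hh, mul_inv_cancel_left, fixU_congr hel,
        fixU_long hs hw hl]
      rw [tr_eq_sum (ρ := 𝐀) (fun a ha => by rw [Subgroup.mem_bot.1 ha, act_one])
        (fun u : U => (u : G)) (fun u => u.2)
        (fun u v e => Subtype.ext (inv_mul_eq_one.1 (Subgroup.mem_bot.1 e)))
        (fun x hx => ⟨⟨x, hx⟩, by simp⟩)]
      have := LinearMap.mem_ker.1 hφ
      rw [hΦ] at this
      refine Eq.trans (Finset.sum_congr rfl fun u _ => ?_) this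
      rw [hconst u, ← act_mul]
    have h1 : (⟨𝐀 h c, hcW⟩ : W) = 0 := hΓinj (by
      rw [map_zero]; exact Subtype.ext hzero)
    have h2 : c = 0 := by
      have := congrArg (fun x : W => 𝐀 h⁻¹ (x : S)) h1
      simpa [← act_mul] using this
    refine hne' (Subtype.ext (funext fun u => ?_))
    show φ u = 0
    rw [hconst u]
    exact Subtype.ext h2
  have hsurjΦ : Function.Surjective Φ := by
    rw [← LinearMap.range_eq_top, eq_top_iff, ← (span_eq_top hs hw hl hne hW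
      fun t ht => Or.inr (hall t ht)).1, Submodule.span_le]
    rintro _ ⟨u, hu, v, hv, rfl⟩
    refine ⟨Pi.single ⟨u, hu⟩ ⟨v, hv⟩, ?_⟩
    rw [hΦ, Finset.sum_eq_single (⟨u, hu⟩ : U)]
    · simp
    · intro b _ hb; simp [hb]
    · simp
  let e := LinearEquiv.ofBijective Φ ⟨hinjΦ, hsurjΦ⟩
  have he : ∀ x, e x = Φ x := fun x => rfl
  let φ0 : S →ₗ[k] S := 𝐀 w ∘ₗ W.subtype ∘ₗ LinearMap.proj (1 : U) ∘ₗ e.symm.toLinearMap
  have hφ0 : ∀ x, φ0 x = 𝐀 w ((e.symm x 1 : W) : S) := fun x => rfl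
  have hidU : ∀ m : S, (∑ u : U, 𝐀 (u : G) (φ0 (𝐀 (u : G)⁻¹ m))) = m := by
    intro m
    conv_rhs => rw [← e.apply_symm_apply m]
    rw [he, hΦ]
    refine Finset.sum_congr rfl fun u _ => ?_
    have h1 : e.symm (𝐀 ((u⁻¹ : U) : G) m) = fun x => e.symm m (u * x) := by
      rw [LinearEquiv.symm_apply_eq, he]
      have := hΦu u⁻¹ (e.symm m)
      simp only [inv_inv] at this
      rw [this]
      congr 1
      exact (e.apply_symm_apply m).symm
    rw [InvMemClass.coe_inv] at h1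
    simp only [hφ0, h1, mul_one, ← act_mul]
  obtain ⟨Q, hQ⟩ := hs.exists_sylow
  have hidx : ((U.index : ℕ) : k) ≠ 0 := by
    rw [Ne, CharP.cast_eq_zero_iff k p, ← hQ]
    exact Q.not_dvd_index
  let F : Module.End (Module.End (MonoidAlgebra k G) S) S :=
    { toFun := fun x => (U.index : k)⁻¹ • φ0 x
      map_add' := fun x y => by rw [map_add, smul_add]
      map_smul' := fun f x => by
        simp only [RingHom.id_apply, Module.End.smul_def]
        have hf : ∀ (c : k) (y : S), f (c • y) = c • f y := fun c y => f.map_smul_of_tower c y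
        have h1 : e.symm (f x) = fun u => (⟨f ((e.symm x u : W) : S), hW.endo _ (e.symm x u).2 f⟩ : W) := by
          rw [LinearEquiv.symm_apply_eq, he, hΦ]
          conv_lhs => rw [← e.apply_symm_apply x, he, hΦ, map_sum]
          exact Finset.sum_congr rfl fun u _ => by rw [act_commute]
        rw [hf, hφ0, hφ0, h1, act_commute] }
  obtain ⟨bs, hbs⟩ := ‹FiniteDimensional k S›.fg_top
  obtain ⟨a, ha⟩ := jacobson_density F bs
  have hact : ∀ x, a • x = F x := by
    have h1 : ((Algebra.lsmul k k S a : S →ₗ[k] S)) = (U.index : k)⁻¹ • φ0 := by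
      refine LinearMap.ext_on hbs fun x hx => ?_
      rw [Algebra.lsmul_coe, LinearMap.smul_apply]
      exact (ha x hx).symm
    intro x
    exact LinearMap.congr_fun h1 x
  refine ⟨a, fun v => ?_⟩
  have h2 : ∀ g : G, 𝐀 g (a • 𝐀 g⁻¹ v) = (U.index : k)⁻¹ • 𝐀 g (φ0 (𝐀 g⁻¹ v)) := fun g => by
    rw [hact]; exact map_smul (𝐀 g) _ _
  rw [Finset.sum_congr rfl fun g _ => h2 g, ← Finset.smul_sum]
  rw [← Fintype.sum_bijective (fun x : (G ⧸ U) × U => x.1.out * (x.2 : G)) ?_ _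
    (fun g => 𝐀 g (φ0 (𝐀 g⁻¹ v))) (fun _ => rfl), Fintype.sum_prod_type]
  swap
  · refine ⟨fun a b e => ?_, fun g => ?_⟩
    · have h := congrArg (QuotientGroup.mk (s := U)) e
      simp only [QuotientGroup.mk_mul_of_mem _ a.2.2, QuotientGroup.mk_mul_of_mem _ b.2.2,
        QuotientGroup.out_eq'] at h
      refine Prod.ext h (Subtype.ext ?_)
      simpa [h] using e
    · exact ⟨((g : G ⧸ U), ⟨(g : G ⧸ U).out⁻¹ * g, QuotientGroup.eq.1 (QuotientGroup.out_eq' _)⟩),
        mul_inv_cancel_left _ _⟩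
  have h3 : ∀ q : G ⧸ U, (∑ u : U, 𝐀 (q.out * (u : G)) (φ0 (𝐀 (q.out * (u : G))⁻¹ v))) = v := by
    intro q
    calc _ = ∑ u : U, 𝐀 q.out (𝐀 (u : G) (φ0 (𝐀 (u : G)⁻¹ (𝐀 q.out⁻¹ v)))) := by
          refine Finset.sum_congr rfl fun u _ => ?_
          rw [mul_inv_rev, act_mul, act_mul]
      _ = v := by rw [← map_sum, hidU, ← act_mul, mul_inv_cancel, act_one]
  rw [Finset.sum_congr rfl fun q _ => h3 q, Finset.sum_const, Finset.card_univ,
    ← Nat.card_eq_fintype_card, ← Nat.cast_smul_eq_nsmul k, ← Subgroup.index, smul_smul,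
    inv_mul_cancel₀ hidx, one_smul]

end CfsgLib.SplitBlocks
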