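import Cfsg.Agent.Lib.SplitBlocks.Centralizer
import Cfsg.Agent.Lib.SplitBlocks.Module
import Cfsg.Agent.Lib.Blocks.Green
import Cfsg.Agent.Lib.Blocks.Heights

/-!
# Blocks of a simple group with a split Tits system in the defining characteristic

Every block has defect zero or full defect.
-/

set_option autoImplicit false
set_option linter.unusedSectionVars false

open Cfsg

noncomputable section

namespace CfsgLib.SplitBlocks

open CfsgLib.Chev.BN CfsgLib.BNSteinberg CfsgLib.Blocks

/-- A sum over a group, coset by coset. -/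
theorem sum_fibres {H : Type*} [Group H] [Fintype H] (C : Subgroup H) {A : Type*} [AddCommMonoid A]
    [Fintype C] [Fintype (H ⧸ C)] (F : H → A) :
    ∑ g, F g = ∑ q : H ⧸ C, ∑ c : C, F (q.out * (c : H)) := by
  refine Eq.trans ?_ (Fintype.sum_prod_type (fun x : (H ⧸ C) × C => F (x.1.out * (x.2 : H))))
  refine (Fintype.sum_bijective (fun x : (H ⧸ C) × C => x.1.out * (x.2 : H)) ⟨fun a b e => ?_,
    fun g => ?_⟩ (fun x : (H ⧸ C) × C => F (x.1.out * (x.2 : H))) F fun _ => rfl).symm
  · have h := congrArg (QuotientGroup.mk (s := C)) e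
    simp only [QuotientGroup.mk_mul_of_mem _ a.2.2, QuotientGroup.mk_mul_of_mem _ b.2.2,
      QuotientGroup.out_eq'] at h
    refine Prod.ext h (Subtype.ext ?_)
    simpa [h] using e
  · exact ⟨((g : H ⧸ C), ⟨(g : H ⧸ C).out⁻¹ * g, QuotientGroup.eq.1 (QuotientGroup.out_eq' _)⟩),
      mul_inv_cancel_left _ _⟩

attribute [local instance high] Fintype.ofFinite

variable {G : Type*} [Group G] [Finite G] {p : ℕ} [hp : Fact p.Prime] {M : Ideal AlgInt} [M.IsMaximal]

/-- A block whose idempotent keeps a coefficient at the identity has full defect. -/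
theorem card_full_of_one (hM : IsPModular p M) {B : Set (IrrCharacter G)} (hB : IsPBlock M B)
    {D : Subgroup G} (hD : IsDefectGroup p M B D) (h1 : rcoeff (idem hB) (1 : G) ≠ 0) :
    Nat.card D = p ^ (Nat.card G).factorization p := by
  obtain ⟨Q, hQ⟩ := (IsDefectGroup.isPGroup hD).exists_le_sylow
  refine le_antisymm ?_ ?_
  · rw [← Q.card_eq_multiplicity]
    exact Subgroup.card_le_of_le hQ
  · obtain ⟨x, hx⟩ := cj_le_defect_of_rcoeff_ne_zero hM hB hD Q.2 (one_mem _) h1
    rw [← Q.card_eq_multiplicity]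
    exact card_le_of_cj_le hx

/-- **Defect zero or full.** -/
theorem card_defect [IsSimpleGroup G] {P : Cfsg.BNPair G} {U : Subgroup G}
    (hs : BNSteinberg.Split P p U) (hM : IsPModular p M) {B : Set (IrrCharacter G)}
    (hB : IsPBlock M B) {D : Subgroup G} (hD : IsDefectGroup p M B D) :
    Nat.card D = 1 ∨ Nat.card D = p ^ (Nat.card G).factorization p := by
  classical
  letI : Field (Res M) := Ideal.Quotient.field M
  haveI : CharP (Res M) p := res_charP M hM
  -- put the defect group below `U`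
  obtain ⟨Q, hQ⟩ := hs.exists_sylow
  obtain ⟨Q', hQ'⟩ := (IsDefectGroup.isPGroup hD).exists_le_sylow
  obtain ⟨c0, hc0⟩ := MulAction.exists_smul_eq G Q' Q
  have hD0 : IsDefectGroup p M B (cj c0 D) := IsDefectGroup.conj hB hD c0
  rw [← card_cj c0 D]
  have hDU : cj c0 D ≤ (Q : Subgroup G) := by
    rw [← hc0, Sylow.coe_subgroup_smul]
    exact cj_mono c0 hQ'
  obtain ⟨x, -, -, hxD⟩ := green_sylow_inter hM hB hD0 Q hDU
  rw [hQ] at hxD hDU
  clear hc0 hQ' Q'
  generalize cj c0 D = D₀ at hD0 hDU hxD ⊢
  obtain ⟨n, hn, hxn⟩ := exists_cell (P := P) x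
  by_cases hA : ∃ s ∈ P.S, n ∈ NJ P (P.S \ {s})
  · -- the radical of a maximal parabolic subgroup lies in the defect group
    right
    obtain ⟨s, hsS, hnJ⟩ := hA
    set J : Set G := P.S \ {s}
    have hJ : J ⊆ P.S := Set.sdiff_subset
    have hne : J ≠ P.S := fun e => ((e.symm ▸ hsS : s ∈ J)).2 rfl
    obtain ⟨wJ, hwJ, hlJ⟩ := exists_long (P := P) hJ
    have hxP : x ∈ P.parabolic J := cell_subset_parabolic hJ hnJ hxn
    have hKD : cj 1 (fixU P U wJ) ≤ D₀ := by
      rw [cj_one, ← hxD]
      refine fun k hk => ⟨hk.1, mem_cj.2 ?_⟩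
      have := (conj_mem_radical hs hJ hwJ hlJ (inv_mem hxP) hk).1
      rwa [inv_inv] at this
    have hKp : IsPGroup p (fixU P U wJ) := hs.pgroup.to_le (fixU_le _)
    obtain ⟨c, hc, hce⟩ := (exists_rcoeff_ne_zero_iff hM hB hD0 hKp).2 ⟨1, hKD⟩
    have hc1 : c = 1 := by
      obtain ⟨i, hi⟩ := centralizer_radical_isPGroup hs hJ hne hwJ hlJ ⟨c, hc⟩
      have hi' : c ^ p ^ i = 1 := congrArg Subtype.val hi
      by_contra h1
      refine hce (rcoeff_idem_singular hM hB ?_)
      obtain ⟨j, -, hj⟩ := (Nat.dvd_prime_pow hp.out).1 (orderOf_dvd_of_pow_eq_one hi')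
      rw [hj]
      refine dvd_pow_self p fun h0 => h1 (orderOf_eq_one_iff.1 ?_)
      rw [hj, h0, pow_zero]
    exact card_full_of_one hM hB hD0 (hc1 ▸ hce)
  · left
    push Not at hA
    obtain ⟨w, hw', hl⟩ := exists_long (P := P) (J := P.S) subset_rfl
    have hw : w ∈ P.N := NJ_le subset_rfl hw'
    obtain ⟨χ, hχ⟩ := IsPBlock.nonempty hB
    set e : (MonoidAlgebra (Res M) G) := red (idem hB) with he
    have hee : e * e = e := by rw [he, ← map_mul, idem_mul_self]
    have hec : ∀ r : (MonoidAlgebra (Res M) G), r * e = e * r := fun r =>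
      Subsemiring.mem_center_iff.mp (red_mem_center (idem hB)) r
    have he0 : e ≠ 0 := by
      intro h0
      have h1 := bomega_eq_of_red_eq χ (a := idem hB) (b := 0) (by rw [← he, h0, map_zero])
      rw [bomega_idem, if_pos hχ, map_zero] at h1
      exact one_ne_zero h1
    have hI : Submodule.span (MonoidAlgebra (Res M) G) {(1 - e : (MonoidAlgebra (Res M) G))} ≠ ⊤ := by
      intro htop
      obtain ⟨r, hr⟩ := Submodule.mem_span_singleton.1 (htop.ge (Submodule.mem_top (x := (1 : (MonoidAlgebra (Res M) G)))))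
      apply he0
      calc e = r * (1 - e) * e := by rw [← smul_eq_mul r, hr, one_mul]
        _ = 0 := by rw [mul_assoc, sub_mul (1 : MonoidAlgebra (Res M) G), one_mul, hee, sub_self, mul_zero]
    obtain ⟨Mx, hMx, hle⟩ := Ideal.exists_le_maximal _ hI
    let S := (MonoidAlgebra (Res M) G) ⧸ Mx
    haveI : IsSimpleModule (MonoidAlgebra (Res M) G) S := isSimpleModule_iff_quot_maximal.2 ⟨Mx, hMx, ⟨LinearEquiv.refl _ _⟩⟩
    haveI : Nontrivial S := IsSimpleModule.nontrivial (MonoidAlgebra (Res M) G) S
    have heS : ∀ v : S, e • v = v := by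
      intro v
      induction v using Submodule.Quotient.induction_on with
      | H r =>
        rw [← Submodule.Quotient.mk_smul, Submodule.Quotient.eq, smul_eq_mul]
        have hmem : r * (1 - e) ∈ Mx :=
          Mx.smul_mem r (hle (Submodule.subset_span (Set.mem_singleton _)))
        have heq : e * r - r = -(r * (1 - e)) := by rw [mul_sub, mul_one, hec, neg_sub]
        rw [heq]
        exact Mx.neg_mem hmem
    obtain ⟨W, hWne, hW, hmin⟩ := exists_min (k := Res M) (S := S) hs hw hl
    have hdich := fun t (ht : t ∈ P.S) => dichotomy hs hw hl hWne hW hmin ht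
    by_cases hkill : ∃ s ∈ P.S, ∀ v ∈ W, gam (k := Res M) (S := S) P U w s v = 0
    · exfalso
      obtain ⟨s, hsS, hks⟩ := hkill
      obtain ⟨l0, hinv, v, hv, hlv⟩ := exists_functional hs hw hl hWne hW hdich
      apply hlv
      have hexp : e = ∑ y : G, rcoeff (idem hB) y • MonoidAlgebra.of (Res M) G y := by
        apply MonoidAlgebra.coeff_injective
        ext g
        rw [he, coeff_red, MonoidAlgebra.coeff_sum, Finsupp.finsetSum_apply,
          Finset.sum_eq_single g]
        · simp [MonoidAlgebra.of_apply]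
        · intro b _ hb
          simp [MonoidAlgebra.of_apply, Finsupp.single_apply, hb]
        · simp
      have hsum : l0 v = ∑ y : G, rcoeff (idem hB) y * l0 (act (Res M) S y v) := by
        conv_lhs => rw [← heS v, hexp, Finset.sum_smul, map_sum]
        exact Finset.sum_congr rfl fun y _ => by
          rw [smul_assoc, map_smul, smul_eq_mul]
          rfl
      rw [hsum]
      let orb : G → Finset G := fun y => Finset.univ.image fun u : U => (u : G) * y * (u : G)⁻¹
      rw [← Finset.sum_fiberwise_of_maps_to (t := Finset.univ.image orb) (g := orb)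
        fun y _ => Finset.mem_image_of_mem orb (Finset.mem_univ y)]
      refine Finset.sum_eq_zero fun O hO => ?_
      obtain ⟨y, -, rfl⟩ := Finset.mem_image.1 hO
      have hfib : (Finset.univ.filter fun z => orb z = orb y) = orb y := by
        ext z
        simp only [Finset.mem_filter, Finset.mem_univ, true_and, orb]
        refine ⟨fun h => h ▸ Finset.mem_image.2 ⟨1, Finset.mem_univ _, by simp⟩, fun h => ?_⟩
        obtain ⟨u, -, rfl⟩ := Finset.mem_image.1 h
        ext a
        simp only [Finset.mem_image, Finset.mem_univ, true_and]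
        refine ⟨fun ⟨b, hb⟩ => ⟨b * u, by rw [← hb, Subgroup.coe_mul]; group⟩, fun ⟨b, hb⟩ =>
          ⟨b * u⁻¹, by rw [← hb, Subgroup.coe_mul, InvMemClass.coe_inv]; group⟩⟩
      rw [hfib]
      by_cases hy : rcoeff (idem hB) y = 0
      · refine Finset.sum_eq_zero fun z hz => ?_
        obtain ⟨u, -, rfl⟩ := Finset.mem_image.1 hz
        rw [← rcoeff_eq_of_isConj (idem hB) (isConj_iff.mpr ⟨(u : G), rfl⟩), hy, zero_mul]
      set Qy := U ⊓ Subgroup.centralizer ({y} : Set G)
      have hzfix : ∀ q ∈ Qy, act (Res M) S q (act (Res M) S y v) = act (Res M) S y v := by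
        intro q hq
        rw [← act_mul, Subgroup.mem_centralizer_singleton_iff.1 hq.2, act_mul, hW.fix v hv q hq.1]
      have horbit : (∑ z ∈ orb y, rcoeff (idem hB) z * l0 (act (Res M) S z v)) =
          rcoeff (idem hB) y * l0 (tr (act (Res M) S) Qy U (act (Res M) S y v)) := by
        rw [tr, map_sum, Finset.mul_sum]
        symm
        refine Finset.sum_bij (fun c _ => ((c.out : U) : G) * y * ((c.out : U) : G)⁻¹)
          (fun c _ => Finset.mem_image.2 ⟨c.out, Finset.mem_univ _, rfl⟩) ?_ ?_ ?_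
        · intro a _ b _ h
          refine out_inj a b ⟨mul_mem (U.inv_mem a.out.2) b.out.2,
            Subgroup.mem_centralizer_singleton_iff.2 ?_⟩
          set α := ((a.out : U) : G)
          set β := ((b.out : U) : G)
          calc α⁻¹ * β * y = α⁻¹ * (β * y * β⁻¹) * β := by group
            _ = α⁻¹ * (α * y * α⁻¹) * β := by rw [h]
            _ = y * (α⁻¹ * β) := by group
        · intro z hz
          obtain ⟨u, -, rfl⟩ := Finset.mem_image.1 hz
          obtain ⟨c, hc⟩ := out_surj (A := Qy) u.2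
          refine ⟨c, Finset.mem_univ _, ?_⟩
          have h1 := Subgroup.mem_centralizer_singleton_iff.1 hc.2
          set α := ((c.out : U) : G)
          calc α * y * α⁻¹ = α * (y * (α⁻¹ * (u : G))) * (u : G)⁻¹ := by group
            _ = α * (α⁻¹ * (u : G) * y) * (u : G)⁻¹ := by rw [← h1]
            _ = (u : G) * y * (u : G)⁻¹ := by group
        · intro c _
          rw [← rcoeff_eq_of_isConj (idem hB) (isConj_iff.mpr ⟨((c.out : U) : G), rfl⟩),
            act_mul, act_mul, hW.fix v hv _ (inv_mem c.out.2)]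
      rw [horbit]
      have hQp : IsPGroup p Qy := hs.pgroup.to_le inf_le_left
      obtain ⟨x0, hx0⟩ := cj_le_defect_of_rcoeff_ne_zero hM hB hD0 hQp
        (c := y) (Subgroup.mem_centralizer_iff.2 fun q hq =>
          Subgroup.mem_centralizer_singleton_iff.1 hq.2) hy
      obtain ⟨m1, hm1, hc1⟩ := exists_cell (P := P) x0⁻¹
      obtain ⟨m2, hm2, hc2⟩ := exists_cell (P := P) (x0⁻¹ * x)
      obtain ⟨h, m, hm, hhm, hmJ, hQh⟩ : ∃ h m, m ∈ P.N ∧ h ∈ cell P m ∧
          m ∉ NJ P (P.S \ {s}) ∧ ∀ q ∈ Qy, h⁻¹ * q * h ∈ P.B := by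
        have hq : ∀ q ∈ Qy, x0 * q * x0⁻¹ ∈ U ∧ x⁻¹ * (x0 * q * x0⁻¹) * x ∈ U := by
          intro q hq
          have h1 := hx0 (show x0 * q * x0⁻¹ ∈ cj x0 Qy from mem_cj.2 (by simpa [mul_assoc] using hq))
          rw [← hxD] at h1
          exact ⟨h1.1, mem_cj.1 h1.2⟩
        by_cases h1 : m1 ∈ NJ P (P.S \ {s})
        · refine ⟨x0⁻¹ * x, m2, hm2, hc2, fun h2 => hA s hsS ?_, fun q hq' => ?_⟩
          · have hJ : P.S \ {s} ⊆ P.S := Set.sdiff_subset
            have a1 := cell_subset_parabolic hJ h1 hc1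
            have a2 := cell_subset_parabolic hJ h2 hc2
            obtain ⟨v', hv', hc'⟩ := parabolic_cell hJ
              (show x ∈ P.parabolic (P.S \ {s}) by simpa using mul_mem (inv_mem a1) a2)
            exact eqv_mem_NJ (eqv_of_mem_cells (NJ_le hJ hv') hn hc' hxn) hv'
          · rw [show (x0⁻¹ * x)⁻¹ * q * (x0⁻¹ * x) = x⁻¹ * (x0 * q * x0⁻¹) * x by group]
            exact hs.le (hq q hq').2
        · exact ⟨x0⁻¹, m1, hm1, hc1, h1, fun q hq' => by rw [inv_inv]; exact hs.le (hq q hq').1⟩
      obtain ⟨u, hu, hue⟩ := orbit_cell hm hs hhm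
      have hub := QuotientGroup.eq.1 hue
      let B' := (fixU P U m).comap (MulAut.conj u⁻¹).toMonoidHom
      have hB' : ∀ g, g ∈ B' ↔ u⁻¹ * g * u ∈ fixU P U m := fun g => by simp [B', mul_assoc]
      have hB'U : B' ≤ U := fun g hg => by
        have h1 := mul_mem (mul_mem hu ((hB' g).1 hg).1) (inv_mem hu)
        rwa [show u * (u⁻¹ * g * u) * u⁻¹ = g by group] at h1
      have hQB : Qy ≤ B' := by
        intro q hq
        refine (hB' q).2 ⟨mul_mem (mul_mem (inv_mem hu) hq.1) hu, ?_⟩
        rw [show m⁻¹ * (u⁻¹ * q * u) * m =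
          ((u * m)⁻¹ * h) * (h⁻¹ * q * h) * ((u * m)⁻¹ * h)⁻¹ by group]
        exact P.B.mul_mem (P.B.mul_mem hub (hQh q hq)) (P.B.inv_mem hub)
      set z1 := tr (act (Res M) S) Qy B' (act (Res M) S y v)
      set z2 := act (Res M) S u⁻¹ z1 with hz2
      have hz2fix : ∀ a ∈ fixU P U m, act (Res M) S a z2 = z2 := by
        intro a ha
        rw [hz2, ← act_mul, show a * u⁻¹ = u⁻¹ * (u * a * u⁻¹) by group, act_mul]
        exact congrArg _ (tr_fixed hzfix ((hB' _).2 (by simpa [mul_assoc] using ha)))
      rw [tr_trans (ρ := act (Res M) S) hQB hB'U hzfix,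
        show tr (act (Res M) S) Qy B' (act (Res M) S y v) = act (Res M) S u z2 by
          rw [hz2, ← act_mul, mul_inv_cancel, act_one],
        tr_conj (ρ := act (Res M) S) hu hz2fix hB', tr_fixed hz2fix hu,
        vanish hs hw hl hWne hW hdich hsS hks hinv hm hmJ hz2fix, mul_zero]
    -- every operator permutes `W`: the module is projective
    push Not at hkill
    have hall : ∀ t ∈ P.S, W ≤ W.map (gam (k := Res M) (S := S) P U w t) := fun t ht =>
      (hdich t ht).resolve_left fun h => by
        obtain ⟨v, hv, hne⟩ := hkill t ht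
        exact hne (h v hv)
    obtain ⟨a, ha⟩ := exists_trace_one hs hw hl hWne hW hall
    set T : (MonoidAlgebra (Res M) G) := ∑ g : G, MonoidAlgebra.of (Res M) G g * a * MonoidAlgebra.of (Res M) G g⁻¹ with hT
    have hTv : ∀ v : S, T • v = v := by
      intro v
      rw [hT, Finset.sum_smul]
      refine Eq.trans (Finset.sum_congr rfl fun g _ => ?_) (ha v)
      rw [mul_smul, mul_smul]
      rfl
    have hcoef : ∀ y, T.coeff y = ∑ g : G, a.coeff (g⁻¹ * y * g) := by
      intro y
      rw [hT, MonoidAlgebra.coeff_sum, Finsupp.finsetSum_apply]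
      refine Finset.sum_congr rfl fun g _ => ?_
      simp [MonoidAlgebra.of_apply, mul_assoc]
    have hconj : ∀ y g, T.coeff (g * y * g⁻¹) = T.coeff y := by
      intro y g
      rw [hcoef, hcoef]
      refine Fintype.sum_equiv (Equiv.mulLeft g⁻¹) _ _ fun h => ?_
      simp [mul_assoc]
    have hsupp : ∀ y, p ∣ Nat.card (Subgroup.centralizer ({y} : Set G)) → T.coeff y = 0 := by
      intro y hy
      rw [hcoef, ← Equiv.sum_comp (Equiv.inv G), sum_fibres (Subgroup.centralizer ({y} : Set G))]
      refine Finset.sum_eq_zero fun q _ => ?_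
      have hc : ∀ c : Subgroup.centralizer ({y} : Set G),
          a.coeff ((q.out * (c : G))⁻¹⁻¹ * y * (q.out * (c : G))⁻¹) =
            a.coeff (q.out * y * q.out⁻¹) := fun c => by
        congr 1
        rw [inv_inv, mul_assoc q.out, Subgroup.mem_centralizer_singleton_iff.1 c.2]
        group
      simp only [Equiv.inv_apply]
      rw [Finset.sum_congr rfl fun c _ => hc c, Finset.sum_const, Finset.card_univ,
        ← Nat.card_eq_fintype_card, ← Nat.cast_smul_eq_nsmul (Res M),
        (CharP.cast_eq_zero_iff (Res M) p _).2 hy, zero_smul]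
    -- lift the central element to the integral centre
    let T' : Zint M G := ⟨ofFun (fun y =>
        ((Function.surjInv (res_surjective M) (T.coeff y) : locRing M) : ℂ)), mem_Zint_iff.mpr
      ⟨fun y => by rw [coeff_ofFun]; exact SetLike.coe_mem _,
        fun y g => by simp only [coeff_ofFun, hconj]⟩⟩
    have hT' : red T' = T := by
      apply MonoidAlgebra.coeff_injective
      ext y
      rw [coeff_red]
      refine Eq.trans (congrArg (res M) (Subtype.ext ?_)) (Function.surjInv_eq (res_surjective M) _)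
      exact coeff_ofFun _ _
    have hne : bomega χ T' ≠ 0 := by
      intro h0
      have hall0 : ∀ η : IrrCharacter G, bomega η (idem hB * T') = 0 := fun η => by
        rw [map_mul, bomega_idem]
        split_ifs with hη
        · rw [one_mul, bomega_eq_of_mem hB hη hχ, h0]
        · rw [zero_mul]
      have h2 := red_pow_eq_zero hall0 (le_refl (Fintype.card (IrrCharacter G)))
      rw [map_mul, ← he, hT'] at h2
      have h3 : ∀ (N : ℕ) (v : S), (e * T) ^ N • v = v := by
        intro N
        induction N with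
        | zero => intro v; rw [pow_zero, one_smul]
        | succ N ih => intro v; rw [pow_succ, mul_smul, mul_smul, hTv, heS, ih]
      obtain ⟨v, hv⟩ := exists_ne (0 : S)
      apply hv
      rw [← h3 (Fintype.card (IrrCharacter G)) v, h2, zero_smul]
    obtain ⟨C, -, hC⟩ := Finset.exists_ne_zero_of_sum_ne_zero ((bomega_eq_sum χ T') ▸ hne)
    have hC1 : ¬ p ∣ Nat.card (Subgroup.centralizer ({C.out} : Set G)) := fun h => by
      refine left_ne_zero_of_mul hC ?_
      rw [← coeff_red, hT', hsupp _ h]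
    obtain ⟨E, hE⟩ := exists_isClassDefect (p := p) C.out
    obtain ⟨x1, hx1⟩ := defect_le_of_bomega_ne_zero hM hB hD0 hχ (right_ne_zero_of_mul hC) hE
    have h1 := card_le_of_cj_le hx1
    rw [hE.card, Nat.factorization_eq_zero_of_not_dvd hC1, pow_zero] at h1
    exact le_antisymm h1 Nat.card_pos

end CfsgLib.SplitBlocks
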